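import Groth.Prelude.Def_Omega3
import Mathlib.Algebra.Category.ModuleCat.Differentials.Presheaf
import Mathlib.Algebra.Category.ModuleCat.Presheaf.Sheafification

/-!
# Existence of a universal derivation for any morphism of schemes
-/

set_option autoImplicit false
set_option backward.isDefEq.respectTransparency false
set_option linter.style.haveILetI false

universe u

open CategoryTheory AlgebraicGeometry Opposite TopologicalSpace

noncomputable section

namespace Groth.Agent.LiftAny

variable {X Y : Scheme.{u}} (f : X ⟶ Y)

/-- The functions on `U` generated by those coming from the base. -/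
def baseSub (U : X.Opens) : Subring Γ(X, U) :=
  Subring.closure {s | ∃ (V : Y.Opens) (e : U ≤ f ⁻¹ᵁ V) (c : Γ(Y, V)), f.appLE V U e c = s}

theorem baseSub_le {U U' : X.Opens} (h : U' ≤ U) :
    baseSub f U ≤ (baseSub f U').comap (X.presheaf.map (homOfLE h).op).hom := by
  refine Subring.closure_le.2 ?_
  rintro _ ⟨V, e, c, rfl⟩
  refine Subring.subset_closure ⟨V, h.trans e, c, ?_⟩
  rw [← Scheme.Hom.appLE_map f e (homOfLE h).op]
  rfl

/-- The presheaf of functions coming from the base. -/
def basePresheaf : (X.Opens)ᵒᵖ ⥤ CommRingCat.{u} where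
  obj U := CommRingCat.of (baseSub f U.unop)
  map {U U'} h := CommRingCat.ofHom ((X.presheaf.map h).hom.restrict _ _ fun x hx => baseSub_le f h.unop.le hx)
  map_id U := by
    ext x
    exact congr($(X.presheaf.map_id U) x.1)
  map_comp g h := by
    ext x
    exact congr($(X.presheaf.map_comp g h) x.1)

/-- Its inclusion. -/
def baseIncl : basePresheaf f ⟶ X.presheaf where
  app U := CommRingCat.ofHom (baseSub f U.unop).subtype

open PresheafOfModules DifferentialsConstruction

/-- A derivation relative to the functions from the base, as a derivation over `Y`. -/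
def toDer (M : PresheafOfModules.{u} (X.presheaf ⋙ forget₂ CommRingCat RingCat))
    (d : M.Derivation' (baseIncl f)) :
    M.Derivation (S := Y.presheaf) (F := Opens.map f.base) f.c where
  d := d.d
  d_mul := d.d_mul
  d_map := d.d_map
  d_app {V} c := Derivation'.d_app d (X := op ((Opens.map f.base).obj V.unop))
    ⟨f.c.app V c, Subring.subset_closure ⟨V.unop, le_rfl, c, by rw [← Scheme.Hom.app_eq_appLE]; rfl⟩⟩

/-- A derivation over `Y` kills the functions from the base. -/
def fromDer (M : PresheafOfModules.{u} (X.presheaf ⋙ forget₂ CommRingCat RingCat))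
    (d : M.Derivation (S := Y.presheaf) (F := Opens.map f.base) f.c) :
    M.Derivation' (baseIncl f) where
  d := d.d
  d_mul := d.d_mul
  d_map := d.d_map
  d_app {U} c := by
    obtain ⟨s, hs⟩ := c
    change d.d s = 0
    induction hs using Subring.closure_induction with
    | mem x hx =>
      obtain ⟨V, e, c, rfl⟩ := hx
      change d.d ((X.presheaf.map (homOfLE e).op) (f.c.app (op V) c)) = 0
      exact (d.d_map (Y := op U.unop) (homOfLE e).op _).trans ((congrArg _ (d.d_app c)).trans (map_zero _))
    | zero => exact map_zero _
    | one => exact d.d_one _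
    | add x y _ _ hx hy => rw [map_add, hx, hy, add_zero]
    | neg x _ hx => rw [map_neg, hx, neg_zero]
    | mul x y _ _ hx hy => rw [d.d_mul, hx, hy, smul_zero, smul_zero, add_zero]

set_option maxHeartbeats 800000 in
/-- Every morphism of schemes has a universal derivation. -/
theorem exists_isUniversal : ∃ (Ω : X.Modules) (d : OmegaSh.Der f Ω), OmegaSh.IsUniversal d := by
  let P := relativeDifferentials' (baseIncl f)
  let α : X.ringCatSheaf.obj ⟶ X.ringCatSheaf.obj := 𝟙 _
  let Ω : X.Modules := (PresheafOfModules.sheafification α).obj P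
  let η : P ⟶ Ω.val := PresheafOfModules.sheafificationHomEquiv α (F := Ω) (𝟙 _)
  refine ⟨Ω, (toDer f P (derivation' (baseIncl f))).postcomp η, fun F D => ?_⟩
  let hu := isUniversal' (baseIncl f)
  let E := PresheafOfModules.sheafificationHomEquiv α (P := P) (F := F)
  have hη : ∀ β : Ω ⟶ F, E β = η ≫ β.val := fun β => by
    apply (PresheafOfModules.toPresheaf _).map_injective
    rw [Functor.map_comp]
    erw [PresheafOfModules.toPresheaf_map_sheafificationHomEquiv_def,
      PresheafOfModules.toPresheaf_map_sheafificationHomEquiv_def]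
    rw [show (𝟙 Ω : Ω ⟶ Ω).val = 𝟙 Ω.val from rfl, CategoryTheory.Functor.map_id]
    erw [Category.comp_id]
    rfl
  refine ⟨E.symm (hu.desc (fromDer f F.val D)), ?_, fun β hβ => ?_⟩
  · have h := hη (E.symm (hu.desc (fromDer f F.val D)))
    rw [Equiv.apply_symm_apply] at h
    ext U x
    exact (congr(($h.symm).app U (CommRingCat.KaehlerDifferential.d x))).trans
      (PresheafOfModules.Derivation.congr_d (hu.fac (fromDer f F.val D)) x)
  · refine E.injective ?_
    rw [Equiv.apply_symm_apply, hη]
    refine hu.postcomp_injective _ _ (Eq.trans ?_ (hu.fac _).symm)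
    ext U x
    exact PresheafOfModules.Derivation.congr_d hβ x

end Groth.Agent.LiftAny

end
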