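import Groth.Agent.DefLift.Extend

/-!
# Gluing local lifts along a first order thickening, for an arbitrary morphism

The computation of `DefLift.Extend` without a separation hypothesis on `f`.
-/

set_option autoImplicit false
set_option linter.style.haveILetI false
set_option backward.isDefEq.respectTransparency false
universe u

open CategoryTheory CategoryTheory.Limits AlgebraicGeometry Opposite TopologicalSpace

noncomputable section

namespace Groth.Agent.LiftAny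

open Groth.Agent.QC Groth.Agent.CechShRes Groth.Agent.DefLift

variable {T₀ T X S : Scheme.{u}} {i : T₀ ⟶ T} [IsClosedImmersion i] (hsq : IsSqZero i)

variable (f : X ⟶ S) (a : T ⟶ S) (a₀ : T₀ ⟶ X)
  {ι : Type u} (U : ι → T.Opens) (b : ∀ j, (U j).toScheme ⟶ X)
  (hb₁ : ∀ j, b j ≫ f = (U j).ι ≫ a) (hb₂ : ∀ j, (i ∣_ U j) ≫ b j = (i ⁻¹ᵁ U j).ι ≫ a₀)

include hsq hb₂ in
theorem preimage_b {C : T₀.Opens} {V : X.Opens} (hC : C ≤ a₀ ⁻¹ᵁ V) (j : ι) :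
    (U j).ι ⁻¹ᵁ up hsq C ≤ b j ⁻¹ᵁ V := by
  rintro ⟨p, hp⟩ ⟨z, hz, hzp⟩
  obtain rfl : i z = p := hzp
  change b j ⟨i z, hp⟩ ∈ V
  have e := congr($(hb₂ j) ⟨z, hp⟩)
  simp only [Scheme.Hom.comp_apply] at e
  have e2 : (i ∣_ U j) ⟨z, hp⟩ = ⟨i z, hp⟩ := Subtype.ext (morphismRestrict_base_coe i (U j) ⟨z, hp⟩)
  rw [e2] at e
  rw [e]
  exact hC hz

include hsq hb₂ in
/-- The section of a local lift. -/
abbrev liftSec {C : T₀.Opens} (V : X.Opens) (hC : C ≤ a₀ ⁻¹ᵁ V) (j : ι) (hj : C ≤ i ⁻¹ᵁ U j) :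
    Γ(X, V) →+* Γ(T, up hsq C) :=
  secOn (b j) V (up hsq C) (up_le hsq hj) (preimage_b hsq a₀ U b hb₂ hC j)

theorem downVal_liftSec {C : T₀.Opens} (V : X.Opens) (hC : C ≤ a₀ ⁻¹ᵁ V) (j : ι) (hj : C ≤ i ⁻¹ᵁ U j) (s : Γ(X, V)) :
    downVal hsq C (liftSec hsq a₀ U b hb₂ V hC j hj s) = a₀.appLE V C hC s := by
  rw [downVal_eq, app_secOn i (b j) a₀ (hb₂ j) V _ _ _ ((preimage_up hsq C).trans_le hC),
    ← CommRingCat.comp_apply (f := a₀.appLE V _ _) (g := T₀.presheaf.map _), Scheme.Hom.appLE_map]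

theorem resO_liftSec {C C' : T₀.Opens} (h : C' ≤ C) (V : X.Opens) (hC : C ≤ a₀ ⁻¹ᵁ V) (j : ι) (hj : C ≤ i ⁻¹ᵁ U j)
    (s : Γ(X, V)) :
    resO T (up_mono hsq h) (liftSec hsq a₀ U b hb₂ V hC j hj s) =
      liftSec hsq a₀ U b hb₂ V (h.trans hC) j (h.trans hj) s :=
  resO_secOn _ _ _ _ _ _

theorem liftSec_res {C : T₀.Opens} {V V' : X.Opens} (h : V' ≤ V) (hC : C ≤ a₀ ⁻¹ᵁ V') (j : ι) (hj : C ≤ i ⁻¹ᵁ U j)
    (s : Γ(X, V)) :
    liftSec hsq a₀ U b hb₂ V' hC j hj (resO X h s) =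
      liftSec hsq a₀ U b hb₂ V (hC.trans (a₀.preimage_mono h)) j hj s :=
  secOn_res _ _ _ _ _ _

include hb₁ in
theorem liftSec_base {C : T₀.Opens} (W : S.Opens) (V : X.Opens) (e : V ≤ f ⁻¹ᵁ W) (hC : C ≤ a₀ ⁻¹ᵁ V) (j : ι)
    (hj : C ≤ i ⁻¹ᵁ U j) (hW : up hsq C ≤ a ⁻¹ᵁ W) (c : Γ(S, W)) :
    liftSec hsq a₀ U b hb₂ V hC j hj (f.appLE W V e c) = a.appLE W (up hsq C) hW c := by
  rw [liftSec, secOn_comp]
  have key : ∀ (g : (U j).toScheme ⟶ S) (_ : g = (U j).ι ≫ a) (hh : (U j).ι ⁻¹ᵁ up hsq C ≤ g ⁻¹ᵁ W),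
      secOn g W (up hsq C) (up_le hsq hj) hh c = a.appLE W (up hsq C) hW c := fun g hg hh => by
    subst hg; exact secOn_ι_comp a W _ _ hh hW c
  exact key _ (hb₁ j) _

omit [IsClosedImmersion i] in
theorem app_a_mem (a : T ⟶ S) (hsqr : a₀ ≫ f = i ≫ a) {W : S.Opens} {z : T₀} (hz : f (a₀ z) ∈ W) : a (i z) ∈ W := by
  have e := congr($(hsqr) z)
  simp only [Scheme.Hom.comp_apply] at e
  exact e ▸ hz

/-- The difference of two local lifts. -/
def diffVal (C : T₀.Opens) (V : X.Opens) (hC : C ≤ a₀ ⁻¹ᵁ V) (j l : ι) (hj : C ≤ i ⁻¹ᵁ U j) (hl : C ≤ i ⁻¹ᵁ U l)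
    (s : Γ(X, V)) : Γ(Omega.conormal i, C) :=
  kv hsq C (liftSec hsq a₀ U b hb₂ V hC l hl s - liftSec hsq a₀ U b hb₂ V hC j hj s)

section Diff

variable (C : T₀.Opens) (V : X.Opens) (hC : C ≤ a₀ ⁻¹ᵁ V) (j l : ι) (hj : C ≤ i ⁻¹ᵁ U j) (hl : C ≤ i ⁻¹ᵁ U l)

theorem downVal_diff (s : Γ(X, V)) :
    downVal hsq C (liftSec hsq a₀ U b hb₂ V hC l hl s - liftSec hsq a₀ U b hb₂ V hC j hj s) = 0 := by
  rw [map_sub, downVal_liftSec, downVal_liftSec, sub_self]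

theorem diffVal_add (s t : Γ(X, V)) :
    diffVal hsq a₀ U b hb₂ C V hC j l hj hl (s + t) =
      diffVal hsq a₀ U b hb₂ C V hC j l hj hl s + diffVal hsq a₀ U b hb₂ C V hC j l hj hl t := by
  rw [diffVal, diffVal, diffVal, map_add, map_add, add_sub_add_comm,
    kv_add hsq (downVal_diff hsq a₀ U b hb₂ C V hC j l hj hl s) (downVal_diff hsq a₀ U b hb₂ C V hC j l hj hl t)]

theorem diffVal_mul (x y : Γ(X, V)) :
    diffVal hsq a₀ U b hb₂ C V hC j l hj hl (x * y) =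
      a₀.appLE V C hC x • diffVal hsq a₀ U b hb₂ C V hC j l hj hl y +
        a₀.appLE V C hC y • diffVal hsq a₀ U b hb₂ C V hC j l hj hl x := by
  let A := liftSec hsq a₀ U b hb₂ V hC l hl
  let B := liftSec hsq a₀ U b hb₂ V hC j hj
  have e : A (x * y) - B (x * y) = A x * (A y - B y) + B y * (A x - B x) := by
    rw [map_mul, map_mul]; ring
  have h1 := downVal_diff hsq a₀ U b hb₂ C V hC j l hj hl
  rw [diffVal]
  refine (congrArg (kv hsq C) e).trans ?_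
  rw [kv_add hsq (by rw [map_mul, h1, mul_zero]) (by rw [map_mul, h1, mul_zero]), kv_mul hsq _ (h1 y),
    kv_mul hsq _ (h1 x), downVal_liftSec, downVal_liftSec]
  rfl

theorem res_diffVal {C' : T₀.Opens} (h : C' ≤ C) (s : Γ(X, V)) :
    res (Omega.conormal i) h (diffVal hsq a₀ U b hb₂ C V hC j l hj hl s) =
      diffVal hsq a₀ U b hb₂ C' V (h.trans hC) j l (h.trans hj) (h.trans hl) s := by
  rw [diffVal, diffVal, kv_res hsq h (downVal_diff hsq a₀ U b hb₂ C V hC j l hj hl s), map_sub,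
    resO_liftSec hsq a₀ U b hb₂ h, resO_liftSec hsq a₀ U b hb₂ h]

theorem diffVal_res {V' : X.Opens} (h : V' ≤ V) (hC' : C ≤ a₀ ⁻¹ᵁ V') (s : Γ(X, V)) :
    diffVal hsq a₀ U b hb₂ C V' hC' j l hj hl (resO X h s) =
      diffVal hsq a₀ U b hb₂ C V hC j l hj hl s := by
  rw [diffVal, diffVal, liftSec_res hsq a₀ U b hb₂, liftSec_res hsq a₀ U b hb₂]

theorem diffVal_cocycle (m : ι) (hm : C ≤ i ⁻¹ᵁ U m) (s : Γ(X, V)) :
    diffVal hsq a₀ U b hb₂ C V hC j m hj hm s =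
      diffVal hsq a₀ U b hb₂ C V hC j l hj hl s + diffVal hsq a₀ U b hb₂ C V hC l m hl hm s := by
  rw [diffVal, diffVal, diffVal, ← kv_add hsq (downVal_diff hsq a₀ U b hb₂ C V hC j l hj hl s)
    (downVal_diff hsq a₀ U b hb₂ C V hC l m hl hm s)]
  congr 1
  abel

end Diff

include hb₁ in
theorem diffVal_base (W : S.Opens) (C : T₀.Opens) (hC : C ≤ a₀ ⁻¹ᵁ (f ⁻¹ᵁ W)) (hsqr : a₀ ≫ f = i ≫ a) (j l : ι)
    (hj : C ≤ i ⁻¹ᵁ U j) (hl : C ≤ i ⁻¹ᵁ U l) (c : Γ(S, W)) :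
    diffVal hsq a₀ U b hb₂ C (f ⁻¹ᵁ W) hC j l hj hl (f.app W c) = 0 := by
  have hW : up hsq C ≤ a ⁻¹ᵁ W := by
    rintro p ⟨z, hz, rfl⟩
    exact app_a_mem f a₀ a hsqr (hC hz)
  rw [diffVal, Scheme.Hom.app_eq_appLE, liftSec_base hsq f a a₀ U b hb₁ hb₂ W _ le_rfl hC l hl hW,
    liftSec_base hsq f a a₀ U b hb₁ hb₂ W _ le_rfl hC j hj hW, sub_self, kv_zero]

/-- The derivation given by two local lifts. -/
def diffDer (hsqr : a₀ ≫ f = i ≫ a) (c : Fin 2 → ι) :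
    OmegaSh.Der f ((Scheme.Modules.pushforward a₀).obj (term (fun j => i ⁻¹ᵁ U j) (Omega.conormal i) c)) :=
  mkDer (fun V => AddMonoidHom.mk' (diffVal hsq a₀ U b hb₂ (cut (fun j => i ⁻¹ᵁ U j) (a₀ ⁻¹ᵁ V) c) V (cut_le _ _ c)
      (c 0) (c 1) (cut_le' _ _ c 0) (cut_le' _ _ c 1)) (diffVal_add hsq a₀ U b hb₂ _ _ _ _ _ _ _))
    (fun V x y => diffVal_mul hsq a₀ U b hb₂ _ _ _ _ _ _ _ x y)
    (fun V V' h x => by
      change diffVal hsq a₀ U b hb₂ _ V' _ _ _ _ _ (resO X h x) = res (Omega.conormal i) _ (diffVal hsq a₀ U b hb₂ _ V _ _ _ _ _ x)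
      rw [res_diffVal, diffVal_res])
    (fun W c' => diffVal_base hsq f a a₀ U b hb₁ hb₂ W _ _ hsqr _ _ _ _ c')

/-- The derivations measuring the differences of local lifts split. -/
def DiffSplits (hsqr : a₀ ≫ f = i ≫ a) : Prop :=
  ∃ E : ∀ c : Fin 1 → ι,
      OmegaSh.Der f ((Scheme.Modules.pushforward a₀).obj (term (fun j => i ⁻¹ᵁ U j) (Omega.conormal i) c)),
    ∀ (c : Fin 2 → ι) (V : X.Opens) (s : Γ(X, V)),
      derVal a₀ (fun j => i ⁻¹ᵁ U j) (diffDer hsq f a a₀ U b hb₁ hb₂ hsqr c) V s =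
        ∑ l : Fin 2, (-1 : ℤ) ^ (l : ℕ) •
          res (Omega.conormal i) (cut_drop (fun j => i ⁻¹ᵁ U j) (a₀ ⁻¹ᵁ V) c l)
            (derVal a₀ (fun j => i ⁻¹ᵁ U j) (E (c ∘ l.succAbove)) V s)

include hsq hb₁ hb₂ in
theorem diffDer_cocycle (hsqr : a₀ ≫ f = i ≫ a) (c : Fin 3 → ι) (V : X.Opens) (s : Γ(X, V)) :
    ∑ l : Fin 3, (-1 : ℤ) ^ (l : ℕ) • res (Omega.conormal i) (cut_drop (fun j => i ⁻¹ᵁ U j) (a₀ ⁻¹ᵁ V) c l)
      (derVal a₀ (fun j => i ⁻¹ᵁ U j) (diffDer hsq f a a₀ U b hb₁ hb₂ hsqr (c ∘ l.succAbove)) V s) = 0 := by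
  let U' : ι → T₀.Opens := fun j => i ⁻¹ᵁ U j
  rw [Fin.sum_univ_three]
  simp only [Fin.val_zero, Fin.val_one, Fin.val_two, pow_zero, pow_one, neg_one_sq, one_zsmul, neg_smul]
  change res (Omega.conormal i) _ (diffVal hsq a₀ U b hb₂ _ _ _ _ _ _ _ s) +
    -res (Omega.conormal i) _ (diffVal hsq a₀ U b hb₂ _ _ _ _ _ _ _ s) +
    res (Omega.conormal i) _ (diffVal hsq a₀ U b hb₂ _ _ _ _ _ _ _ s) = 0
  rw [res_diffVal, res_diffVal, res_diffVal]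
  simp only [Function.comp_apply, show (0 : Fin 3).succAbove 1 = 2 from rfl, show (0 : Fin 3).succAbove 0 = 1 from rfl,
      show (1 : Fin 3).succAbove 1 = 2 from rfl, show (1 : Fin 3).succAbove 0 = 0 from rfl,
      show (2 : Fin 3).succAbove 1 = 1 from rfl, show (2 : Fin 3).succAbove 0 = 0 from rfl]
  rw [diffVal_cocycle hsq a₀ U b hb₂ _ V _ (c 0) (c 1) (cut_le' U' _ c 0) (cut_le' U' _ c 1) (c 2) (cut_le' U' _ c 2)]
  abel

include hsq hb₁ hb₂ in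
/-- Local lifts can be corrected to agree. -/
theorem exists_correction (hsqr : a₀ ≫ f = i ≫ a)
    (h : DiffSplits hsq f a a₀ U b hb₁ hb₂ hsqr) :
    ∃ ψ : ∀ (C : T₀.Opens) (V : X.Opens) (j : ι), C ≤ a₀ ⁻¹ᵁ V → C ≤ i ⁻¹ᵁ U j → (Γ(X, V) →+* Γ(T, up hsq C)),
      (∀ C V j hC hj s, downVal hsq C (ψ C V j hC hj s) = a₀.appLE V C hC s) ∧
      (∀ C C' V j hC hj (hh : C' ≤ C) s,
        resO T (up_mono hsq hh) (ψ C V j hC hj s) = ψ C' V j (hh.trans hC) (hh.trans hj) s) ∧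
      (∀ C V V' j hC hC' hj (hh : V' ≤ V) s, ψ C V' j hC' hj (resO X hh s) = ψ C V j hC hj s) ∧
      (∀ C V j l hC hj hl s, ψ C V j hC hj s = ψ C V l hC hl s) ∧
      (∀ C (W : S.Opens) j hC hj (hW : up hsq C ≤ a ⁻¹ᵁ W) c,
        ψ C (f ⁻¹ᵁ W) j hC hj (f.app W c) = a.appLE W (up hsq C) hW c) := by
  let U' : ι → T₀.Opens := fun j => i ⁻¹ᵁ U j
  obtain ⟨E, hE⟩ : ∃ E : ∀ c : Fin 1 → ι, OmegaSh.Der f ((Scheme.Modules.pushforward a₀).obj (term U' (Omega.conormal i) c)),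
      ∀ (c : Fin 2 → ι) (V : X.Opens) (s : Γ(X, V)),
        derVal a₀ U' (diffDer hsq f a a₀ U b hb₁ hb₂ hsqr c) V s =
          ∑ l : Fin 2, (-1 : ℤ) ^ (l : ℕ) • res (Omega.conormal i) (cut_drop U' (a₀ ⁻¹ᵁ V) c l)
            (derVal a₀ U' (E (c ∘ l.succAbove)) V s) := h
  have hle : ∀ {C : T₀.Opens} {V : X.Opens} {j : ι}, C ≤ a₀ ⁻¹ᵁ V → C ≤ i ⁻¹ᵁ U j → C ≤ cut U' (a₀ ⁻¹ᵁ V) ![j] :=
    fun hC hj z hz => (mem_cut U').2 ⟨hC hz, fun k => by fin_cases k; exact hj hz⟩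
  choose e he he' using fun (C : T₀.Opens) (V : X.Opens) (j : ι) (hC : C ≤ a₀ ⁻¹ᵁ V) (hj : C ≤ i ⁻¹ᵁ U j)
      (s : Γ(X, V)) => exists_kv_eq hsq C (res (Omega.conormal i) (hle hC hj) (derVal a₀ U' (E ![j]) V s))
  have hu : ∀ C V j hC hj s r, downVal hsq C r = 0 →
      kv hsq C r = res (Omega.conormal i) (hle hC hj) (derVal a₀ U' (E ![j]) V s) → e C V j hC hj s = r := by
    intro C V j hC hj s r hr hr'
    rw [← sub_eq_zero]
    refine kv_injective hsq (by rw [map_sub, he, hr, sub_self]) ?_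
    rw [kv_sub hsq (he C V j hC hj s) hr, he', hr', sub_self]
  have hdadd : ∀ C V j hC hj x y, e C V j hC hj (x + y) = e C V j hC hj x + e C V j hC hj y := fun C V j hC hj x y =>
    hu _ _ _ _ _ _ _ (by rw [map_add, he, he, add_zero]) (by
      rw [kv_add hsq (he _ _ _ _ _ x) (he _ _ _ _ _ y), he', he', ← map_add]
      exact congrArg (res (Omega.conormal i) _) (map_add ((E ![j]).app V) x y).symm)
  have hdmul : ∀ C V j hC hj x y, e C V j hC hj (x * y) =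
      liftSec hsq a₀ U b hb₂ V hC j hj x * e C V j hC hj y + liftSec hsq a₀ U b hb₂ V hC j hj y * e C V j hC hj x :=
    fun C V j hC hj x y => hu _ _ _ _ _ _ _ (by rw [map_add, map_mul, map_mul, he, he, mul_zero, mul_zero, add_zero]) (by
      rw [kv_add hsq (by rw [map_mul, he, mul_zero]) (by rw [map_mul, he, mul_zero]), kv_mul hsq _ (he C V j hC hj y),
        kv_mul hsq _ (he C V j hC hj x), he', he', downVal_liftSec, downVal_liftSec]
      have h1 : derVal a₀ U' (E ![j]) V (x * y) =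
          a₀.appLE V (cut U' (a₀ ⁻¹ᵁ V) ![j]) (cut_le U' _ _) x • derVal a₀ U' (E ![j]) V y +
            a₀.appLE V (cut U' (a₀ ⁻¹ᵁ V) ![j]) (cut_le U' _ _) y • derVal a₀ U' (E ![j]) V x := by
        refine ((E ![j]).d_mul (X := op V) x y).trans (congrArg₂ (· + ·) ?_ ?_)
        · exact term_smul U' ![j] _ (a₀.app V x) _
        · exact term_smul U' ![j] _ (a₀.app V y) _
      rw [h1, map_add, res_smul, res_smul]
      simp only [resO, ← CommRingCat.comp_apply, Scheme.Hom.appLE_map])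
  let ψ : ∀ (C : T₀.Opens) (V : X.Opens) (j : ι), C ≤ a₀ ⁻¹ᵁ V → C ≤ i ⁻¹ᵁ U j → (Γ(X, V) →+* Γ(T, up hsq C)) :=
    fun C V j hC hj =>
    { toFun := fun s => liftSec hsq a₀ U b hb₂ V hC j hj s - e C V j hC hj s
      map_one' := by
        have := hdmul C V j hC hj 1 1
        rw [mul_one, map_one, one_mul, left_eq_add] at this
        rw [this, map_one, sub_zero]
      map_mul' := fun x y => by
        rw [hdmul, map_mul, sub_mul, mul_sub, mul_sub,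
          mul_eq_zero_of_downVal hsq (he C V j hC hj x) (he C V j hC hj y)]
        ring
      map_zero' := by
        have := hdadd C V j hC hj 0 0
        rw [add_zero, left_eq_add] at this
        rw [this, map_zero, sub_zero]
      map_add' := fun x y => by
        rw [hdadd, map_add]
        abel }
  refine ⟨ψ, fun C V j hC hj s => ?_, fun C C' V j hC hj hh s => ?_, fun C V V' j hC hC' hj hh s => ?_,
    fun C V j l hC hj hl s => ?_, fun C W j hC hj hW c => ?_⟩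
  · change downVal hsq C (_ - _) = _
    rw [map_sub, he, sub_zero, downVal_liftSec]
  · change resO T _ (_ - _) = _ - _
    rw [map_sub, resO_liftSec hsq a₀ U b hb₂ hh]
    refine congrArg (_ - ·) (hu _ _ _ _ _ _ _ (by rw [downVal_res hsq hh, he, map_zero]) ?_).symm
    rw [← kv_res hsq hh (he _ _ _ _ _ s), he', res_res]
  · change liftSec hsq a₀ U b hb₂ V' hC' j hj (resO X hh s) - e C V' j hC' hj (resO X hh s) =
      liftSec hsq a₀ U b hb₂ V hC j hj s - e C V j hC hj s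
    rw [liftSec_res hsq a₀ U b hb₂]
    refine congrArg (_ - ·) (hu _ _ _ _ _ _ _ (he C V j hC hj s) ?_)
    rw [he']
    refine Eq.trans ?_ (congrArg (res (Omega.conormal i) (hle hC' hj)) ((E ![j]).d_map (homOfLE hh).op s).symm)
    exact (res_res (Omega.conormal i) (hle hC' hj) (CechShRes.cut_mono U' (a₀.preimage_mono hh) ![j]) _).symm
  · have hCc : C ≤ cut U' (a₀ ⁻¹ᵁ V) ![j, l] := fun z hz => (mem_cut U').2 ⟨hC hz, fun k => by
      fin_cases k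
      · exact hj hz
      · exact hl hz⟩
    have h1 := congrArg (res (Omega.conormal i) hCc) (hE ![j, l] V s)
    rw [Fin.sum_univ_two] at h1
    simp only [Fin.val_zero, Fin.val_one, pow_zero, pow_one, one_zsmul, neg_smul, map_add, map_neg, res_res] at h1
    have key : ∀ (c c' : Fin 1 → ι) (_ : c = c') (hc : C ≤ cut U' (a₀ ⁻¹ᵁ V) c) (hc' : C ≤ cut U' (a₀ ⁻¹ᵁ V) c'),
        res (Omega.conormal i) hc (derVal a₀ U' (E c) V s) = res (Omega.conormal i) hc' (derVal a₀ U' (E c') V s) :=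
      fun c c' hcc hc hc' => by subst hcc; rfl
    rw [key _ _ (succAbove_two_zero ![j, l]) _ (hle hC hl), key _ _ (succAbove_two_one ![j, l]) _ (hle hC hj),
      ← sub_eq_add_neg] at h1
    simp only [Matrix.cons_val_zero, Matrix.cons_val_one, Matrix.cons_val_fin_one] at h1
    rw [← he' C V l hC hl s, ← he' C V j hC hj s] at h1
    change res (Omega.conormal i) _ (diffVal hsq a₀ U b hb₂ _ V _ j l _ _ s) = _ at h1
    rw [res_diffVal, ← kv_sub hsq (he _ _ _ _ _ s) (he _ _ _ _ _ s), diffVal] at h1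
    have h2 : liftSec hsq a₀ U b hb₂ V hC l hl s - liftSec hsq a₀ U b hb₂ V hC j hj s =
        e C V l hC hl s - e C V j hC hj s := by
      rw [← sub_eq_zero]
      refine kv_injective hsq ?_ ?_
      · simp [downVal_liftSec, he]
      · rw [kv_sub hsq (downVal_diff hsq a₀ U b hb₂ C V hC j l hj hl s) (by simp [he]), h1, sub_self]
    change liftSec hsq a₀ U b hb₂ V hC j hj s - e C V j hC hj s = liftSec hsq a₀ U b hb₂ V hC l hl s - e C V l hC hl s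
    rw [sub_eq_sub_iff_sub_eq_sub, ← neg_sub, h2]
    abel
  · change liftSec hsq a₀ U b hb₂ (f ⁻¹ᵁ W) hC j hj (f.app W c) - e C (f ⁻¹ᵁ W) j hC hj (f.app W c) = _
    have h0 : e C (f ⁻¹ᵁ W) j hC hj (f.app W c) = 0 := hu _ _ _ _ _ _ _ (map_zero _) (by
      rw [kv_zero]
      exact ((congrArg (res (Omega.conormal i) (hle hC hj)) ((E ![j]).d_app (X := op W) c)).trans (map_zero _)).symm)
    rw [h0, sub_zero, Scheme.Hom.app_eq_appLE, liftSec_base hsq f a a₀ U b hb₁ hb₂ W _ le_rfl hC j hj hW]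

include hsq hb₁ hb₂ in
/-- Local lifts glue to a global lift when their differences split. -/
theorem exists_extension_of_split (hsqr : a₀ ≫ f = i ≫ a) (hU : iSup U = ⊤)
    (h : DiffSplits hsq f a a₀ U b hb₁ hb₂ hsqr) :
    ∃ b' : T ⟶ X, b' ≫ f = a ∧ i ≫ b' = a₀ := by
  have hcov : ⨆ j, i ⁻¹ᵁ U j = ⊤ := eq_top_iff.2 fun z _ => by
    obtain ⟨j, hj⟩ := Opens.mem_iSup.1 (hU.ge (trivial : i z ∈ (⊤ : T.Opens)))
    exact Opens.mem_iSup.2 ⟨j, hj⟩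
  obtain ⟨ψ, hψd, hψr, hψn, hψe, hψb⟩ := exists_correction hsq f a a₀ U b hb₁ hb₂ hsqr h
  have hglue : ∀ (V : X.Opens) (s : Γ(X, V)), ∃! t : Γ(T, up hsq (a₀ ⁻¹ᵁ V)),
      ∀ j, resO T (up_mono hsq (inf_le_left : a₀ ⁻¹ᵁ V ⊓ i ⁻¹ᵁ U j ≤ a₀ ⁻¹ᵁ V)) t =
        ψ (a₀ ⁻¹ᵁ V ⊓ i ⁻¹ᵁ U j) V j inf_le_left inf_le_right s := by
    intro V s
    refine T.sheaf.existsUnique_gluing' (fun j => up hsq (a₀ ⁻¹ᵁ V ⊓ i ⁻¹ᵁ U j)) _
      (fun j => homOfLE (up_mono hsq inf_le_left)) ?_ _ (fun j l => ?_)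
    · rintro p ⟨z, hz, rfl⟩
      obtain ⟨j, hj⟩ := Opens.mem_iSup.1 (hcov.ge (trivial : z ∈ (⊤ : T₀.Opens)))
      exact Opens.mem_iSup.2 ⟨j, z, ⟨hz, hj⟩, rfl⟩
    · let C := (a₀ ⁻¹ᵁ V ⊓ i ⁻¹ᵁ U j) ⊓ (a₀ ⁻¹ᵁ V ⊓ i ⁻¹ᵁ U l)
      have hle : up hsq (a₀ ⁻¹ᵁ V ⊓ i ⁻¹ᵁ U j) ⊓ up hsq (a₀ ⁻¹ᵁ V ⊓ i ⁻¹ᵁ U l) ≤ up hsq C := by
        rintro p ⟨⟨z, hz, rfl⟩, w, hw, hwz⟩
        obtain rfl := i.isEmbedding.injective hwz
        exact ⟨w, ⟨hz, hw⟩, rfl⟩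
      have h1 : resO T (up_mono hsq (inf_le_left : C ≤ _)) (ψ _ V j inf_le_left inf_le_right s) =
          resO T (up_mono hsq (inf_le_right : C ≤ _)) (ψ _ V l inf_le_left inf_le_right s) := by
        rw [hψr _ C V j _ _ inf_le_left, hψr _ C V l _ _ inf_le_right]
        exact hψe _ _ _ _ _ _ _ _
      have := congrArg (resO T hle) h1
      rw [resO_resO, resO_resO] at this
      exact this
  choose φ hφ hφu using hglue
  let pre : X.affineOpens → T.Opens := fun V => up hsq (a₀ ⁻¹ᵁ V.1)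
  let Φ : ∀ V : X.affineOpens, Γ(X, V.1) ⟶ Γ(T, pre V) := fun V => CommRingCat.ofHom
    { toFun := φ V.1
      map_one' := (hφu V.1 1 1 fun j => by rw [map_one, map_one]).symm
      map_mul' := fun x y => (hφu V.1 _ _ fun j => by rw [map_mul, hφ, hφ, map_mul]).symm
      map_zero' := (hφu V.1 0 0 fun j => by rw [map_zero, map_zero]).symm
      map_add' := fun x y => (hφu V.1 _ _ fun j => by rw [map_add, hφ, hφ, map_add]).symm }
  have hsurj := surjective_of_sqZero hsq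
  obtain ⟨b', hb'⟩ := exists_hom_of_sections pre
    (fun p => by
      obtain ⟨z, rfl⟩ := hsurj p
      obtain ⟨V, hV, -⟩ := KosExt.exists_affine_le (O := (⊤ : X.Opens)) (x := a₀ z) trivial
      exact ⟨V, z, hV, rfl⟩)
    (fun V V' p h1 h2 => by
      obtain ⟨z, hz, rfl⟩ := h1
      obtain ⟨w, hw, hwz⟩ := h2
      obtain rfl := i.isEmbedding.injective hwz
      obtain ⟨W, hW, hle⟩ := KosExt.exists_affine_le (O := V.1 ⊓ V'.1) (x := a₀ w) ⟨hz, hw⟩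
      exact ⟨W, hle.trans inf_le_left, hle.trans inf_le_right, w, hW, rfl⟩)
    (fun {V V'} h => up_mono hsq (a₀.preimage_mono h)) Φ (fun V V' h => by
      ext s
      change φ V'.1 (resO X h s) = resO T _ (φ V.1 s)
      refine (hφu V'.1 _ _ fun j => ?_).symm
      rw [hψn _ V.1 V'.1 j (inf_le_left.trans (a₀.preimage_mono h)), ← hψr (a₀ ⁻¹ᵁ V.1 ⊓ i ⁻¹ᵁ U j)
        _ V.1 j inf_le_left inf_le_right (inf_le_inf_right _ (a₀.preimage_mono h)) s, ← hφ, resO_resO, resO_resO])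
  choose eb heb using hb'
  have hi : i ≫ b' = a₀ := by
    refine hom_ext_of_sections (Z := T₀) (X := X) (fun V => a₀ ⁻¹ᵁ V.1) (fun z => ?_)
      (fun V z hz => eb V ⟨z, hz, rfl⟩) (fun V => le_rfl) fun V s => ?_
    · obtain ⟨V, hV, -⟩ := KosExt.exists_affine_le (O := (⊤ : X.Opens)) (x := a₀ z) trivial
      exact ⟨V, hV⟩
    · rw [← Scheme.Hom.appLE_comp_appLE i b' V.1 (pre V) (a₀ ⁻¹ᵁ V.1) (eb V) (preimage_up hsq _).ge,
        CommRingCat.comp_apply, heb]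
      change downVal hsq _ (φ V.1 s) = _
      refine T₀.sheaf.eq_of_locally_eq' (fun j => a₀ ⁻¹ᵁ V.1 ⊓ i ⁻¹ᵁ U j) _ (fun j => homOfLE inf_le_left) ?_ _ _
        fun j => ?_
      · intro z hz
        obtain ⟨j, hj⟩ := Opens.mem_iSup.1 (hcov.ge (trivial : z ∈ (⊤ : T₀.Opens)))
        exact Opens.mem_iSup.2 ⟨j, hz, hj⟩
      · change resO T₀ _ (downVal hsq _ _) = (a₀.appLE _ _ _ ≫ T₀.presheaf.map (homOfLE _).op) s
        rw [← downVal_res, hφ, hψd, Scheme.Hom.appLE_map]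
  refine ⟨b', ?_, hi⟩
  have hbz : ∀ z, b' (i z) = a₀ z := fun z => congr($hi z)
  refine hom_ext_of_sections (Z := T) (X := S) (fun W => a ⁻¹ᵁ W.1) (fun p => ?_) (fun W p hp => ?_)
    (fun W => le_rfl) fun W c => ?_
  · obtain ⟨W, hW, -⟩ := KosExt.exists_affine_le (O := (⊤ : S.Opens)) (x := a p) trivial
    exact ⟨W, hW⟩
  · obtain ⟨z, rfl⟩ := hsurj p
    change f (b' (i z)) ∈ W.1
    rw [hbz]
    have e := congr($(hsqr) z)
    simp only [Scheme.Hom.comp_apply] at e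
    rw [e]
    exact hp
  · refine T.sheaf.eq_of_locally_eq'
      (fun q : {q : X.affineOpens × ι // q.1.1 ≤ f ⁻¹ᵁ W.1} => up hsq (a₀ ⁻¹ᵁ q.1.1.1 ⊓ i ⁻¹ᵁ U q.1.2)) _
      (fun q => homOfLE ?_) ?_ _ _ fun q => ?_
    · rintro p ⟨z, hz, rfl⟩
      exact app_a_mem f a₀ a hsqr (q.2 hz.1)
    · intro p hp
      obtain ⟨z, rfl⟩ := hsurj p
      have e := congr($(hsqr) z)
      simp only [Scheme.Hom.comp_apply] at e
      obtain ⟨V, hV, hle⟩ := KosExt.exists_affine_le (O := f ⁻¹ᵁ W.1) (x := a₀ z) (show f (a₀ z) ∈ W.1 by rw [e]; exact hp)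
      obtain ⟨j, hj⟩ := Opens.mem_iSup.1 (hcov.ge (trivial : z ∈ (⊤ : T₀.Opens)))
      exact Opens.mem_iSup.2 ⟨⟨(V, j), hle⟩, z, ⟨hV, hj⟩, rfl⟩
    · obtain ⟨⟨V, j⟩, hle⟩ := q
      let C := a₀ ⁻¹ᵁ V.1 ⊓ i ⁻¹ᵁ U j
      have hCa : up hsq C ≤ a ⁻¹ᵁ W.1 := by
        rintro p ⟨z, hz, rfl⟩
        exact app_a_mem f a₀ a hsqr (hle hz.1)
      have hCb : up hsq C ≤ (b' ≫ f) ⁻¹ᵁ W.1 := by
        rintro p ⟨z, hz, rfl⟩
        change f (b' (i z)) ∈ W.1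
        rw [hbz]
        exact hle hz.1
      change ((b' ≫ f).appLE W.1 _ _ ≫ T.presheaf.map (homOfLE _).op) c = (a.appLE W.1 _ _ ≫ T.presheaf.map (homOfLE _).op) c
      rw [Scheme.Hom.appLE_map, Scheme.Hom.appLE_map,
        ← Scheme.Hom.appLE_comp_appLE b' f W.1 V.1 (up hsq C) hle ((up_mono hsq inf_le_left).trans (eb V)),
        CommRingCat.comp_apply]
      have h1 : b'.appLE V.1 (up hsq C) ((up_mono hsq inf_le_left).trans (eb V)) =
          b'.appLE V.1 (pre V) (eb V) ≫ T.presheaf.map (homOfLE (up_mono hsq inf_le_left)).op := by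
        rw [Scheme.Hom.appLE_map]
      rw [h1, CommRingCat.comp_apply, heb]
      change resO T _ (φ V.1 _) = _
      rw [hφ, ← hψb C W.1 j (fun z hz => hle hz.1) inf_le_right hCa c]
      exact (hψn C (f ⁻¹ᵁ W.1) V.1 j _ inf_le_left inf_le_right hle (f.app W.1 c))

end Groth.Agent.LiftAny

end
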