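import Groth.Agent.LiftAny.Deriv
import Groth.Agent.LiftAny.Extend
import Groth.Agent.DefLift.HomSplit
import Groth.Agent.DefLift.PushDer
import Groth.Agent.OmegaLib.FiniteType
import Groth.Agent.ExtShX.HomTilde
import Groth.Agent.S9827
import Groth.Agent.W7Cech.TwistInv

/-!
# Local lifts along a first order thickening of an affine scheme glue
-/

set_option autoImplicit false
set_option linter.style.haveILetI false
set_option backward.isDefEq.respectTransparency false
set_option backward.isDefEq.respectTransparency.types false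
universe u

open CategoryTheory CategoryTheory.Limits AlgebraicGeometry Opposite TopologicalSpace Abelian

noncomputable section

namespace Groth.Agent.LiftAny

open Groth.Agent.QC Groth.Agent.CechShRes

section push

variable {Z X S : Scheme.{u}} (g : Z ⟶ X) {f : X ⟶ S} {G : Z.Modules} {ι : Type u} (U : ι → Z.Opens)
  {Ω₀ : X.Modules} {d : OmegaSh.Der f Ω₀} (hd : OmegaSh.IsUniversal d)

/-- The value of a derivation into the direct image of a term of the Čech complex. -/
abbrev derVal {n : ℕ} {a : Fin (n + 1) → ι} (D : OmegaSh.Der f ((Scheme.Modules.pushforward g).obj (term U G a)))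
    (V : X.Opens) (s : Γ(X, V)) : Γ(G, cut U (g ⁻¹ᵁ V) a) :=
  D.app V s

theorem homEquiv_app {F : X.Modules} {M : Z.Modules} (φ : (Scheme.Modules.pullback g).obj F ⟶ M)
    {N : Z.Modules} (q : M ⟶ N) :
    (Scheme.Modules.pullbackPushforwardAdjunction g).homEquiv _ _ (φ ≫ q) =
      (Scheme.Modules.pullbackPushforwardAdjunction g).homEquiv _ _ φ ≫ (Scheme.Modules.pushforward g).map q :=
  Adjunction.homEquiv_naturality_right _ _ _

/-- A sum of composites with restriction maps, evaluated on a differential. -/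
theorem sum_val {n : ℕ} (φ : ∀ a : Fin (n + 1) → ι,
      (Scheme.Modules.pullback g).obj Ω₀ ⟶ term U G a) (a : Fin (n + 2) → ι) (V : X.Opens) (s : Γ(X, V)) :
    ((Scheme.Modules.pullbackPushforwardAdjunction g).homEquiv _ _
        (∑ k : Fin (n + 2), (-1 : ℤ) ^ (k : ℕ) • (φ (a ∘ k.succAbove) ≫ CechOX.pushRestrMapApp (le_drop U a k) G))).app V
          (d.app V s) =
      ∑ k : Fin (n + 2), (-1 : ℤ) ^ (k : ℕ) • res G (cut_drop U (g ⁻¹ᵁ V) a k)
        (((Scheme.Modules.pullbackPushforwardAdjunction g).homEquiv _ _ (φ (a ∘ k.succAbove))).app V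
          (d.app V s)) := by
  let adj := Scheme.Modules.pullbackPushforwardAdjunction g
  have hadd : ∀ p q : (Scheme.Modules.pullback g).obj Ω₀ ⟶ term U G a,
      adj.homEquiv _ _ (p + q) = adj.homEquiv _ _ p + adj.homEquiv _ _ q := fun p q => by
    rw [Adjunction.homEquiv_unit, Adjunction.homEquiv_unit, Adjunction.homEquiv_unit, Functor.map_add,
      Preadditive.comp_add]
  let ev : ((Scheme.Modules.pullback g).obj Ω₀ ⟶ term U G a) →+ Γ(G, cut U (g ⁻¹ᵁ V) a) :=
    AddMonoidHom.mk' (fun p => (adj.homEquiv _ _ p).app V (d.app V s)) fun p q => by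
      rw [hadd]; rfl
  refine (map_sum ev _ _).trans (Finset.sum_congr rfl fun k _ => (map_zsmul ev _ _).trans (congrArg _ ?_))
  change (adj.homEquiv _ _ (φ (a ∘ k.succAbove) ≫ CechOX.pushRestrMapApp (le_drop U a k) G)).app V
    (d.app V s) = _
  rw [homEquiv_app]
  rfl

include hd in
/-- A one cocycle of derivations with values in `G` splits when cocycles of
maps from `g^*Ω` to the Čech complex of `G` lift. -/
theorem exists_push_split_of_lift (hlift : ∀ c : (Scheme.Modules.pullback g).obj Ω₀ ⟶ ((CechOX.cechSh U).obj G).X 1,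
      c ≫ ((CechOX.cechSh U).obj G).d 1 2 = 0 →
        ∃ b : (Scheme.Modules.pullback g).obj Ω₀ ⟶ ((CechOX.cechSh U).obj G).X 0,
          b ≫ ((CechOX.cechSh U).obj G).d 0 1 = c)
    (D : ∀ a : Fin 2 → ι, OmegaSh.Der f ((Scheme.Modules.pushforward g).obj (term U G a)))
    (hD : ∀ (a : Fin 3 → ι) (V : X.Opens) (s : Γ(X, V)),
      ∑ k : Fin 3, (-1 : ℤ) ^ (k : ℕ) • res G (cut_drop U (g ⁻¹ᵁ V) a k) (derVal g U (D (a ∘ k.succAbove)) V s) = 0) :
    ∃ E : ∀ a : Fin 1 → ι, OmegaSh.Der f ((Scheme.Modules.pushforward g).obj (term U G a)),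
      ∀ (a : Fin 2 → ι) (V : X.Opens) (s : Γ(X, V)),
        derVal g U (D a) V s =
          ∑ k : Fin 2, (-1 : ℤ) ^ (k : ℕ) • res G (cut_drop U (g ⁻¹ᵁ V) a k) (derVal g U (E (a ∘ k.succAbove)) V s) := by
  let adj := Scheme.Modules.pullbackPushforwardAdjunction g
  let Ω := (Scheme.Modules.pullback g).obj Ω₀
  choose α hα hα' using fun a => hd _ (D a)
  have hval : ∀ a V s, (α a).app V (d.app V s) = derVal g U (D a) V s := fun a V s =>
    congrArg (fun E : OmegaSh.Der f _ => E.app V s) (hα a)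
  let φ : ∀ a : Fin 2 → ι, Ω ⟶ term U G a := fun a => (adj.homEquiv _ _).symm (α a)
  let c : Ω ⟶ ((CechOX.cechSh U).obj G).X 1 := Pi.lift φ
  have hcd : c ≫ ((CechOX.cechSh U).obj G).d 1 2 = 0 := Pi.hom_ext _ _ fun a => by
    rw [zero_comp, Category.assoc]
    refine Eq.trans ?_ ((adj.homEquiv _ _).injective (a₁ := ∑ k : Fin 3, (-1 : ℤ) ^ (k : ℕ) •
      (φ (a ∘ k.succAbove) ≫ CechOX.pushRestrMapApp (le_drop U a k) G)) (a₂ := 0) ?_)
    · refine (congrArg (c ≫ ·) (d_π U G a)).trans ((Preadditive.comp_sum _ _ _).trans ?_)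
      refine Finset.sum_congr rfl fun k _ => ?_
      rw [Preadditive.comp_zsmul]
      exact congrArg _ (Pi.lift_π_assoc (f := term U G) φ _ _)
    · let q := adj.homEquiv Ω₀ (term U G a) (∑ k : Fin 3, (-1 : ℤ) ^ (k : ℕ) •
        (φ (a ∘ k.succAbove) ≫ CechOX.pushRestrMapApp (le_drop U a k) G))
      obtain ⟨β, -, hu⟩ := hd _ (d.postcomp q.val)
      refine (hu _ rfl).trans (hu _ ?_).symm
      refine PresheafOfModules.Derivation.ext (funext fun V => ?_)
      ext s
      rw [show adj.homEquiv Ω₀ (term U G a) 0 = 0 by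
        rw [Adjunction.homEquiv_unit, Functor.map_zero, comp_zero]]
      refine Eq.trans ?_ (sum_val g U φ a V.unop s).symm
      refine Eq.trans (hD a V.unop s).symm (Finset.sum_congr rfl fun k _ => ?_)
      rw [← hval]
      simp only [φ, adj, Equiv.apply_symm_apply]
  obtain ⟨b, hb⟩ := hlift c hcd
  refine ⟨fun a => d.postcomp (adj.homEquiv _ _ (b ≫ Pi.π (term U G) a)).val, fun a V s => ?_⟩
  have h1 : adj.homEquiv _ _ (φ a) = α a := Equiv.apply_symm_apply _ _
  have h2 : φ a = ∑ k : Fin 2, (-1 : ℤ) ^ (k : ℕ) •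
      ((b ≫ Pi.π (term U G) (a ∘ k.succAbove)) ≫ CechOX.pushRestrMapApp (le_drop U a k) G) := by
    refine (Pi.lift_π (f := term U G) φ a).symm.trans ((congrArg (· ≫ Pi.π (term U G) a) hb.symm).trans ?_)
    refine (Category.assoc _ _ _).trans ((congrArg (b ≫ ·) (d_π U G a)).trans ((Preadditive.comp_sum _ _ _).trans ?_))
    exact Finset.sum_congr rfl fun k _ => by rw [Preadditive.comp_zsmul, Category.assoc]
  rw [← hval, ← h1, h2]
  exact sum_val g U (fun a => b ≫ Pi.π (term U G) a) a V s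

end push

theorem pre_id {X : Scheme.{u}} (F : X.Modules) : ExtShX.pre (𝟙 F) = 𝟙 (DCoh.sheafHom F) := by
  unfold ExtShX.pre
  rw [CategoryTheory.Functor.map_id, conjugateEquiv_id]

/-- The sheaf of homomorphisms out of a finitely presented quasi-coherent module has no `H¹` on an affine scheme. -/
theorem subsingleton_hh_sheafHom (A : CommRingCat.{u}) {P N : (Spec A).Modules} (hP : Coh.IsQCoh P) (hP' : CohB1.IsFP P)
    (hN : Coh.IsQCoh N) : Subsingleton (Coh.HH (Spec A) ((DCoh.sheafHom P).obj N) 1) := by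
  haveI : P.IsQuasicoherent := hP
  let M := (moduleSpecΓFunctor (R := A)).obj P
  let e : P ≅ tilde (R := A) M := (QC.isoTildeΓ P).symm
  haveI : Module.FinitePresentation A M :=
    (S9827.result A M).1 (W7Cech.isFP_of_iso e hP')
  let e' : (DCoh.sheafHom (tilde (R := A) M)).obj N ≅ (DCoh.sheafHom P).obj N :=
    { hom := (ExtShX.pre e.hom).app N
      inv := (ExtShX.pre e.inv).app N
      hom_inv_id := by rw [← NatTrans.comp_app, ← ExtShX.pre_comp, e.inv_hom_id, pre_id]; rfl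
      inv_hom_id := by rw [← NatTrans.comp_app, ← ExtShX.pre_comp, e.hom_inv_id, pre_id]; rfl }
  exact ExtShX.subsingleton_hh_qcoh _ (QC.isQCoh_of_iso e' (ExtShX.isQCoh_sheafHom_tilde A M hN)) 0

theorem main_spec {A : CommRingCat.{u}} {S X T : Scheme.{u}} (f : X ⟶ S) [LocallyOfFinitePresentation f]
    (i : Spec A ⟶ T) [IsClosedImmersion i] (hsq : DefLift.IsSqZero i) (a : T ⟶ S) (a₀ : Spec A ⟶ X)
    (hsqr : a₀ ≫ f = i ≫ a) {ι : Type u} (U : ι → T.Opens) (hU : iSup U = ⊤) (b : ∀ j, (U j).toScheme ⟶ X)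
    (hb₁ : ∀ j, b j ≫ f = (U j).ι ≫ a) (hb₂ : ∀ j, (i ∣_ U j) ≫ b j = (i ⁻¹ᵁ U j).ι ≫ a₀) :
    ∃ b' : T ⟶ X, b' ≫ f = a ∧ i ≫ b' = a₀ := by
  obtain ⟨Ω₀, d, hd⟩ := exists_isUniversal f
  let P := (Scheme.Modules.pullback a₀).obj Ω₀
  have hΩ : Coh.IsQCoh Ω₀ := OmegaLib.isQCoh_of_isUniversal hd
  have hPq : Coh.IsQCoh P := QC.isQCoh_pullback _ hΩ
  have hP : CohB1.IsFP P := ModDesc.isFP_pullback a₀ hΩ (OmegaLib.isFP_of_locallyOfFinitePresentation hd)
  have hcov : ⨆ j, i ⁻¹ᵁ U j = ⊤ := eq_top_iff.2 fun z _ => by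
    obtain ⟨j, hj⟩ := Opens.mem_iSup.1 (hU.ge (trivial : i z ∈ (⊤ : T.Opens)))
    exact Opens.mem_iSup.2 ⟨j, hj⟩
  haveI : ModSite.HasSheafHom (O := (Spec A).sheaf) P := ModSiteTensor.hasSheafHom (O := (Spec A).sheaf) P
  let e₀ : Coh.toAb ((ModSite.sheafHom (O := (Spec A).sheaf) P).obj (Omega.conormal i)) ≅
      Coh.toAb ((DCoh.sheafHom P).obj (Omega.conormal i)) :=
    (SheafOfModules.toSheaf (Spec A).ringCatSheaf).mapIso ((ExtShX.homIso P).app (Omega.conormal i))
  have h : Subsingleton (Coh.HH (Spec A) ((ModSite.sheafHom (O := (Spec A).sheaf) P).obj (Omega.conormal i)) 1) := by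
    let e' := ((Sheaf.functorH.{u, u} (Opens.grothendieckTopology (Spec A).toTopCat) 1).mapIso e₀.symm).addCommGroupIsoToAddEquiv
    exact @Function.Surjective.subsingleton _ _ _
      (subsingleton_hh_sheafHom A hPq hP (QC.isQCoh_pullback _ (isQCoh_idealMod _))) e'.surjective
  exact exists_extension_of_split hsq f a a₀ U b hb₁ hb₂ hsqr hU
    (exists_push_split_of_lift a₀ (fun j => i ⁻¹ᵁ U j) hd
      (fun c hc => DefLift.exists_lift_one_of_hom (fun j => i ⁻¹ᵁ U j) hcov h c hc)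
      (diffDer hsq f a a₀ U b hb₁ hb₂ hsqr) (diffDer_cocycle hsq f a a₀ U b hb₁ hb₂ hsqr))

end Groth.Agent.LiftAny

end
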